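import Mathlib

/-!
# A formal criterion for the counit of an adjunction to be a split epimorphism (helper5)

Abstract form of: for `p` finite étale, `p^* p_* V ⟶ V` is a split epimorphism
(base change to `X' ×_X X'`, then restrict to the open and closed diagonal).
-/
set_option autoImplicit false
universe v₁ v₂ v₃ u₁ u₂ u₃
open CategoryTheory

namespace Groth.Agent.Lib.Helper5.FinEt

variable {𝒜 : Type u₁} {ℬ : Type u₂} {𝒵 : Type u₃}
  [Category.{v₁} 𝒜] [Category.{v₂} ℬ] [Category.{v₃} 𝒵]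

theorem isSplitEpi_of_comp_iso {X Y Z : 𝒜} (f : X ⟶ Y) (g : Y ⟶ Z) [IsIso g]
    [IsSplitEpi (f ≫ g)] : IsSplitEpi f := by
  have h : f = (f ≫ g) ≫ inv g := by
    rw [Category.assoc, IsIso.hom_inv_id, Category.comp_id]
  rw [h]
  infer_instance

/-- the restriction to the "diagonal" of the counit of `π₂^* ⊣ π₂_*` is a split epi -/
theorem isSplitEpi_map_counit {L₂ : 𝒜 ⥤ 𝒵} {R₂ : 𝒵 ⥤ 𝒜} (A₂ : L₂ ⊣ R₂)
    {Rd : 𝒵 ⥤ 𝒜} {Pd : 𝒜 ⥤ 𝒵} (D : Rd ⊣ Pd) [IsIso D.counit]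
    (e : Pd ⋙ R₂ ≅ 𝟭 𝒜) (N : 𝒵) (hη : IsSplitEpi (D.unit.app N)) :
    IsSplitEpi (Rd.map (A₂.counit.app N)) := by
  haveI : (Pd ⋙ R₂).Full := Functor.Full.of_iso e.symm
  haveI : (Pd ⋙ R₂).Faithful := Functor.Faithful.of_iso e.symm
  haveI hB : IsIso (A₂.comp D).counit := inferInstance
  have key : ∀ M : 𝒜, IsIso (Rd.map (A₂.counit.app (Pd.obj M))) := by
    intro M
    have hc : Rd.map (A₂.counit.app (Pd.obj M)) ≫ D.counit.app M =
        (A₂.comp D).counit.app M := by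
      first
        | exact (Adjunction.comp_counit_app A₂ D M).symm
        | simp
    haveI : IsIso ((A₂.comp D).counit.app M) := inferInstance
    haveI : IsIso (D.counit.app M) := inferInstance
    exact IsIso.of_isIso_fac_right hc
  have hnat : L₂.map (R₂.map (D.unit.app N)) ≫ A₂.counit.app (Pd.obj (Rd.obj N)) =
      A₂.counit.app N ≫ D.unit.app N := A₂.counit_naturality (D.unit.app N)
  have h2 : Rd.map (L₂.map (R₂.map (D.unit.app N))) ≫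
      Rd.map (A₂.counit.app (Pd.obj (Rd.obj N))) =
      Rd.map (A₂.counit.app N) ≫ Rd.map (D.unit.app N) := by
    rw [← Rd.map_comp, ← Rd.map_comp, hnat]
  haveI : IsIso (D.counit.app (Rd.obj N)) := inferInstance
  haveI hRη : IsIso (Rd.map (D.unit.app N)) :=
    IsIso.of_isIso_fac_right (hh := IsIso.id _) (D.left_triangle_components N)
  haveI := key (Rd.obj N)
  haveI : IsSplitEpi (Rd.map (A₂.counit.app N) ≫ Rd.map (D.unit.app N)) := by
    rw [← h2]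
    infer_instance
  exact isSplitEpi_of_comp_iso _ (Rd.map (D.unit.app N))

/-- **the abstract criterion** -/
theorem isSplitEpi_of_data {L : ℬ ⥤ 𝒜} {Rp : 𝒜 ⥤ ℬ} (A : L ⊣ Rp)
    {L₂ : 𝒜 ⥤ 𝒵} {R₂ : 𝒵 ⥤ 𝒜} (A₂ : L₂ ⊣ R₂) {H : 𝒜 ⥤ 𝒵}
    {Rd : 𝒵 ⥤ 𝒜} {Pd : 𝒜 ⥤ 𝒵} (D : Rd ⊣ Pd) [IsIso D.counit]
    (e : Pd ⋙ R₂ ≅ 𝟭 𝒜) (Φ : H ⋙ Rd ≅ 𝟭 𝒜) (α : L ⋙ L₂ ≅ L ⋙ H) (V : 𝒜)
    (hbc : IsIso ((mateEquiv A A₂ α.hom).app V))
    (hη : IsSplitEpi (D.unit.app (H.obj V))) :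
    IsSplitEpi (A.counit.app V) := by
  haveI := hbc
  haveI hb := isSplitEpi_map_counit A₂ D e (H.obj V) hη
  have h1 : L₂.map ((mateEquiv A A₂ α.hom).app V) ≫ A₂.counit.app (H.obj V) =
      α.hom.app (Rp.obj V) ≫ H.map (A.counit.app V) := mateEquiv_counit A A₂ α.hom V
  have h4 : H.map (A.counit.app V) =
      α.inv.app (Rp.obj V) ≫ L₂.map ((mateEquiv A A₂ α.hom).app V) ≫
        A₂.counit.app (H.obj V) := by
    rw [h1, Iso.inv_hom_id_app_assoc]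
  have h5 : Rd.map (H.map (A.counit.app V)) =
      Rd.map (α.inv.app (Rp.obj V)) ≫ Rd.map (L₂.map ((mateEquiv A A₂ α.hom).app V)) ≫
        Rd.map (A₂.counit.app (H.obj V)) := by
    rw [h4, Rd.map_comp, Rd.map_comp]
  have h6 : A.counit.app V =
      Φ.inv.app (L.obj (Rp.obj V)) ≫ Rd.map (H.map (A.counit.app V)) ≫ Φ.hom.app V := by
    have hn : Rd.map (H.map (A.counit.app V)) ≫ Φ.hom.app V =
        Φ.hom.app (L.obj (Rp.obj V)) ≫ A.counit.app V := Φ.hom.naturality (A.counit.app V)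
    have h7 : Φ.inv.app (L.obj (Rp.obj V)) ≫ (Φ.hom.app (L.obj (Rp.obj V)) ≫ A.counit.app V) =
        A.counit.app V := Iso.inv_hom_id_app_assoc Φ _ _
    exact h7.symm.trans (congrArg (fun t => Φ.inv.app (L.obj (Rp.obj V)) ≫ t) hn.symm)
  rw [h6, h5]
  haveI : IsSplitEpi (Rd.map (α.inv.app (Rp.obj V)) ≫
      Rd.map (L₂.map ((mateEquiv A A₂ α.hom).app V)) ≫ Rd.map (A₂.counit.app (H.obj V))) :=
    inferInstance
  infer_instance

end Groth.Agent.Lib.Helper5.FinEt
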