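import Mathlib
import Groth.Agent.Lib.Helper5.FinEt.SplitAbs
import Groth.Agent.Lib.Helper5.BC.BcM
import Groth.Agent.Lib.Helper1.CoprodMod

/-!
# `p^* p_* V ⟶ V` is a split epimorphism for `p` affine with open and closed diagonal (helper5)
-/
set_option autoImplicit false
universe u
open CategoryTheory CategoryTheory.Limits AlgebraicGeometry

namespace Groth.Agent.Lib.Helper5.FinEt

/-- an open and closed immersion has a complementary open subscheme -/
theorem exists_compl_open {X Z : Scheme.{u}} (a : X ⟶ Z) [IsOpenImmersion a]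
    [IsClosedImmersion a] :
    ∃ C : Z.Opens, a.opensRange ⊔ C.ι.opensRange = ⊤ ∧ a.opensRange ⊓ C.ι.opensRange = ⊥ := by
  have hcl : IsClosed (Set.range a) := a.isClosedEmbedding.isClosed_range
  refine ⟨⟨(Set.range a)ᶜ, hcl.isOpen_compl⟩, ?_, ?_⟩
  · rw [Scheme.Opens.opensRange_ι]
    apply SetLike.coe_injective
    rw [TopologicalSpace.Opens.coe_sup, Scheme.Hom.coe_opensRange, TopologicalSpace.Opens.coe_top]
    exact Set.union_compl_self _
  · rw [Scheme.Opens.opensRange_ι]
    apply SetLike.coe_injective
    rw [TopologicalSpace.Opens.coe_inf, Scheme.Hom.coe_opensRange, TopologicalSpace.Opens.coe_bot]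
    exact Set.inter_compl_self _

/-- **the counit `p^* p_* V ⟶ V` splits** for `p` affine with open and closed diagonal -/
theorem isSplitEpi_counit {X X' : Scheme.{u}} (p : X' ⟶ X) [IsAffineHom p]
    [IsOpenImmersion (pullback.diagonal p)] [IsClosedImmersion (pullback.diagonal p)]
    (V' : X'.Modules) [V'.IsQuasicoherent] :
    IsSplitEpi ((Scheme.Modules.pullbackPushforwardAdjunction p).counit.app V') := by
  obtain ⟨C, hsup, hinf⟩ := exists_compl_open (pullback.diagonal p)
  haveI hΘ := Groth.Agent.Helper1.CoprodMod.isIso_Θ (pullback.diagonal p) C.ι hsup hinf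
    ((Scheme.Modules.pullback (pullback.fst p p)).obj V')
  have hη : IsSplitEpi ((Scheme.Modules.restrictAdjunction (pullback.diagonal p)).unit.app
      ((Scheme.Modules.pullback (pullback.fst p p)).obj V')) := by
    have h : Groth.Agent.Helper1.CoprodMod.Θ (pullback.diagonal p) C.ι
        ((Scheme.Modules.pullback (pullback.fst p p)).obj V') ≫ biprod.fst =
        (Scheme.Modules.restrictAdjunction (pullback.diagonal p)).unit.app _ :=
      biprod.lift_fst _ _
    rw [← h]
    infer_instance
  have hsq : IsPullback (pullback.fst p p) (pullback.snd p p) p p := IsPullback.of_hasPullback p p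
  have hbc := Groth.Agent.Lib.Helper5.BC.isIso_bcM_app hsq V'
  exact isSplitEpi_of_data (Scheme.Modules.pullbackPushforwardAdjunction p)
    (Scheme.Modules.pullbackPushforwardAdjunction (pullback.snd p p))
    (H := Scheme.Modules.pullback (pullback.fst p p))
    (Scheme.Modules.restrictAdjunction (pullback.diagonal p))
    (Scheme.Modules.pushforwardComp _ _ ≪≫
      Scheme.Modules.pushforwardCongr (pullback.diagonal_snd p) ≪≫
      Scheme.Modules.pushforwardId X')
    (Functor.isoWhiskerLeft _ (Scheme.Modules.restrictFunctorIsoPullback (pullback.diagonal p)) ≪≫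
      Scheme.Modules.pullbackComp _ _ ≪≫
      Scheme.Modules.pullbackCongr (pullback.diagonal_fst p) ≪≫
      Scheme.Modules.pullbackId X')
    (Groth.Agent.Lib.Helper5.BC.betaM hsq.w) V' hbc hη

end Groth.Agent.Lib.Helper5.FinEt
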